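import Mathlib.AlgebraicGeometry.Morphisms.Integral
import Mathlib.AlgebraicGeometry.Morphisms.ClosedImmersion
import Mathlib.AlgebraicGeometry.Fiber
import Mathlib.RingTheory.QuasiFinite.Basic
import Mathlib.RingTheory.Ideal.GoingUp

/-!
# Affine opens adapted to a closed immersion and an integral morphism
-/

set_option autoImplicit false
set_option linter.all false
set_option maxHeartbeats 1000000
set_option backward.isDefEq.respectTransparency false

universe u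

open AlgebraicGeometry CategoryTheory TopologicalSpace Opposite

namespace GrothLib.AdaptAff6

/-- A section on a small affine open, multiplied by a power, extends with small support. -/
theorem exists_extension {Z : Scheme.{u}} {P W : Z.Opens} (hP : IsAffineOpen P) (hW : IsAffineOpen W)
    (hWP : W ≤ P) (c : Γ(Z, P)) (hc : Z.basicOpen c ≤ W) (b : Γ(Z, W)) :
    ∃ (N : ℕ) (a : Γ(Z, P)), Z.presheaf.map (homOfLE hWP).op a =
      Z.presheaf.map (homOfLE hWP).op c ^ N * b ∧ Z.basicOpen a ≤ Z.basicOpen c := by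
  obtain ⟨m, a, ha⟩ := exists_eq_pow_mul_of_isCompact_of_isQuasiSeparated Z P hP.isCompact
    hP.isQuasiSeparated c (Z.presheaf.map (homOfLE hc).op b)
  let cW := Z.presheaf.map (homOfLE hWP).op c
  have hD : Z.basicOpen cW ≤ W := Z.basicOpen_le cW
  have hDc : Z.basicOpen cW ≤ Z.basicOpen c := by
    rw [Scheme.basicOpen_res]; exact inf_le_right
  have hx : (Z.presheaf.map (homOfLE hWP).op a - cW ^ m * b) |_ Z.basicOpen cW = 0 := by
    show Z.presheaf.map (homOfLE hD).op _ = 0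
    have h1 := congrArg (Z.presheaf.map (homOfLE hDc).op) ha
    simp only [TopCat.Presheaf.restrictOpenCommRingCat_apply, map_mul, map_pow,
      ← ConcreteCategory.comp_apply, ← Functor.map_comp] at h1
    simp only [cW, map_sub, map_mul, map_pow, ← ConcreteCategory.comp_apply, ← Functor.map_comp]
    rw [sub_eq_zero]
    exact h1
  obtain ⟨l, hl⟩ := exists_pow_mul_eq_zero_of_res_basicOpen_eq_zero_of_isCompact Z hW.isCompact _ cW hx
  refine ⟨l + 1 + m, c ^ (l + 1) * a, ?_, ?_⟩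
  · rw [map_mul, map_pow]
    rw [mul_sub, sub_eq_zero] at hl
    calc cW ^ (l + 1) * Z.presheaf.map (homOfLE hWP).op a
        = cW * (cW ^ l * Z.presheaf.map (homOfLE hWP).op a) := by ring
      _ = cW * (cW ^ l * (cW ^ m * b)) := by rw [hl]
      _ = cW ^ (l + 1 + m) * b := by ring
  · rw [Scheme.basicOpen_mul, Scheme.basicOpen_pow _ _ (Nat.succ_pos l)]
    exact inf_le_left

/-- One function on `P` which is invertible on the fibre and supported in `W`. -/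
theorem exists_section {Y Z : Scheme.{u}} (j : Z ⟶ Y) [IsIntegralHom j] (y : Y) {P : Z.Opens}
    (hP : IsAffineOpen P) {V : Y.Opens} (hV : IsAffineOpen V) (hy : y ∈ V) (hWP : j ⁻¹ᵁ V ≤ P) :
    ∃ a : Γ(Z, P), Z.basicOpen a ≤ j ⁻¹ᵁ V ∧ j ⁻¹' {y} ⊆ Z.basicOpen a := by
  classical
  set W := j ⁻¹ᵁ V
  have hW : IsAffineOpen W := hV.preimage j
  letI : Algebra Γ(Y, V) Γ(Z, W) := (j.app V).hom.toAlgebra
  haveI : Algebra.IsIntegral Γ(Y, V) Γ(Z, W) := ⟨j.isIntegral_app V hV⟩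
  let res : Γ(Z, P) ⟶ Γ(Z, W) := Z.presheaf.map (homOfLE hWP).op
  have hΦ : IsCompact (j ⁻¹' {y}) := by
    rw [← j.range_fiberι y]
    exact isCompact_range (j.fiberι y).continuous
  have hmem : ∀ x : j ⁻¹' {y}, x.1 ∈ W := fun x => by
    show j x.1 ∈ V
    rw [show j x.1 = y from x.2]; exact hy
  choose c hc hxc using fun x : j ⁻¹' {y} => hP.exists_basicOpen_le (V := W) ⟨x.1, hmem x⟩ (hWP (hmem x))
  obtain ⟨s, hs⟩ := hΦ.elim_finite_subcover (fun x : j ⁻¹' {y} => (Z.basicOpen (c x) : Set Z))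
    (fun x => (Z.basicOpen (c x)).isOpen) (fun z hz => Set.mem_iUnion.mpr ⟨⟨z, hz⟩, hxc ⟨z, hz⟩⟩)
  let B0 : Subalgebra Γ(Y, V) Γ(Z, W) :=
    Algebra.adjoin Γ(Y, V) ((s.image fun x => res.hom (c x) : Finset Γ(Z, W)) : Set Γ(Z, W))
  haveI : Module.Finite Γ(Y, V) B0 := Module.Finite.of_fg
    (fg_adjoin_of_finite (Finset.finite_toSet _) fun b _ => Algebra.IsIntegral.isIntegral b)
  let p : Ideal Γ(Y, V) := (IsLocalRing.maximalIdeal (Y.presheaf.stalk y)).comap (Y.presheaf.germ V y hy).hom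
  -- the prime of `B0` attached to a point of the fibre
  let Q : j ⁻¹' {y} → Ideal B0 := fun x =>
    ((IsLocalRing.maximalIdeal (Z.presheaf.stalk x.1)).comap (Z.presheaf.germ W x.1 (hmem x)).hom).comap
      B0.val.toRingHom
  have hQ : ∀ (x : j ⁻¹' {y}) (b : B0), b ∈ Q x ↔ x.1 ∉ Z.basicOpen (b : Γ(Z, W)) := fun x b => by
    show Z.presheaf.germ W x.1 (hmem x) (b : Γ(Z, W)) ∈ IsLocalRing.maximalIdeal _ ↔ _
    rw [Scheme.mem_basicOpen _ _ _ (hmem x), IsLocalRing.mem_maximalIdeal]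
    rfl
  have hQp : ∀ x, (Q x).IsPrime := fun x => inferInstance
  have hQo : ∀ x, (Q x).comap (algebraMap Γ(Y, V) B0) = p := fun x => by
    ext r
    rw [Ideal.mem_comap, hQ]
    show x.1 ∉ Z.basicOpen ((j.app V).hom r) ↔ Y.presheaf.germ V y hy r ∈ IsLocalRing.maximalIdeal _
    rw [IsLocalRing.mem_maximalIdeal, mem_nonunits_iff, ← Scheme.mem_basicOpen _ _ _ hy,
      ← j.preimage_basicOpen]
    show ¬ (j x.1 ∈ Y.basicOpen r) ↔ _
    rw [show j x.1 = y from x.2]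
  haveI : p.IsPrime := inferInstance
  have hfin : (Set.range Q).Finite :=
    (Algebra.QuasiFinite.finite_primesOver (S := B0) p).subset (by
      rintro _ ⟨x, rfl⟩
      exact ⟨hQp x, ⟨(hQo x).symm⟩⟩)
  let S := hfin.toFinset
  have hSmem : ∀ q ∈ S, ∃ x, Q x = q := fun q hq => by simpa [S] using hq
  have hincomp : ∀ q ∈ S, ∀ q' ∈ S, q ≤ q' → q = q' := by
    intro q hq q' hq' hle
    obtain ⟨x, rfl⟩ := hSmem q hq
    obtain ⟨x', rfl⟩ := hSmem q' hq'
    by_contra hne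
    obtain ⟨t, ht, ht'⟩ := SetLike.exists_of_lt (lt_of_le_of_ne hle hne)
    have := Ideal.comap_lt_comap_of_integral_mem_sdiff (R := Γ(Y, V)) (I := Q x) hle ⟨ht, ht'⟩
      (Algebra.IsIntegral.isIntegral t)
    rw [hQo, hQo] at this
    exact lt_irrefl _ this
  have hk : ∀ q, ∃ cq : Γ(Z, P), q ∈ S →
      Z.basicOpen cq ≤ W ∧ ∀ x', Q x' = q → x'.1 ∈ Z.basicOpen cq := by
    intro q
    by_cases hq : q ∈ S
    swap
    · exact ⟨0, fun h => absurd h hq⟩
    obtain ⟨x₀, rfl⟩ := hSmem q hq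
    obtain ⟨x, hxs, hx⟩ : ∃ x ∈ s, x₀.1 ∈ Z.basicOpen (c x) := by simpa using hs x₀.2
    have key : ∀ x' : j ⁻¹' {y}, x'.1 ∈ Z.basicOpen (c x) ↔ x'.1 ∈ Z.basicOpen (res.hom (c x)) :=
      fun x' => by
        show _ ↔ x'.1 ∈ Z.basicOpen (Z.presheaf.map (homOfLE hWP).op (c x))
        rw [Scheme.basicOpen_res]
        exact ⟨fun h => ⟨hmem x', h⟩, fun h => h.2⟩
    refine ⟨c x, fun _ => ⟨hc x, fun x' hx' => ?_⟩⟩
    let b : B0 := ⟨res.hom (c x), Algebra.subset_adjoin (Finset.mem_image_of_mem _ hxs)⟩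
    by_contra h
    have hb : b ∈ Q x' := (hQ x' b).mpr (fun hh => h ((key x').mpr hh))
    rw [hx'] at hb
    exact (hQ x₀ b).mp hb ((key x₀).mp hx)
  choose cq hcq using hk
  have he : ∀ q ∈ S, ∃ e : B0, e ∉ q ∧ ∀ q' ∈ S, q' ≠ q → e ∈ q' := by
    intro q hq
    haveI : q.IsPrime := by obtain ⟨x, rfl⟩ := hSmem q hq; exact hQp x
    have hnle : ¬ (S.erase q).inf id ≤ q := fun hle => by
      obtain ⟨q', hq', hle'⟩ := (Ideal.IsPrime.inf_le' inferInstance).mp hle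
      rw [Finset.mem_erase] at hq'
      exact hq'.1 (hincomp q' hq'.2 q hq hle')
    obtain ⟨e, he1, he2⟩ := SetLike.not_le_iff_exists.mp hnle
    exact ⟨e, he2, fun q' hq' hne => (Finset.inf_le (f := id) (Finset.mem_erase.mpr ⟨hne, hq'⟩)) he1⟩
  choose! e he1 he2 using he
  choose! N a ha1 ha2 using fun q (hq : q ∈ S) =>
    exists_extension hP hW hWP (cq q) (hcq q hq).1 ((e q : B0) : Γ(Z, W))
  refine ⟨∑ q ∈ S, a q, ?_, fun z hz => ?_⟩
  · intro z hz
    have hzP : z ∈ P := Z.basicOpen_le _ hz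
    rw [Scheme.mem_basicOpen _ _ _ hzP, map_sum] at hz
    obtain ⟨q, hq, hu⟩ : ∃ q ∈ S, IsUnit (Z.presheaf.germ P z hzP (a q)) := by
      by_contra hno
      push_neg at hno
      refine (IsLocalRing.mem_maximalIdeal _).mp (Ideal.sum_mem _ fun q hq => ?_) hz
      exact (IsLocalRing.mem_maximalIdeal _).mpr (hno q hq)
    exact (hcq q hq).1 (ha2 q hq ((Scheme.mem_basicOpen _ _ _ hzP).mpr hu))
  · let x : j ⁻¹' {y} := ⟨z, hz⟩
    have hqS : Q x ∈ S := by simp [S]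
    show z ∈ Z.basicOpen _
    suffices z ∈ Z.basicOpen (res.hom (∑ q ∈ S, a q)) by
      rw [show res.hom (∑ q ∈ S, a q) = Z.presheaf.map (homOfLE hWP).op (∑ q ∈ S, a q) from rfl,
        Scheme.basicOpen_res] at this
      exact this.2
    rw [Scheme.mem_basicOpen _ _ _ (hmem x), map_sum, map_sum,
      ← Finset.add_sum_erase _ _ hqS]
    have hval : ∀ q ∈ S, res.hom (a q) = res.hom (cq q) ^ N q * ((e q : B0) : Γ(Z, W)) :=
      fun q hq => ha1 q hq
    by_contra hnu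
    have hrest : ∑ q ∈ S.erase (Q x), Z.presheaf.germ W x.1 (hmem x) (res.hom (a q)) ∈
        IsLocalRing.maximalIdeal _ := by
      refine Ideal.sum_mem _ fun q hq => ?_
      rw [Finset.mem_erase] at hq
      rw [hval q hq.2, map_mul]
      exact Ideal.mul_mem_left _ _ (he2 q hq.2 (Q x) hqS (Ne.symm hq.1) : e q ∈ Q x)
    have hmain := (Submodule.add_mem_iff_left _ hrest).mp ((IsLocalRing.mem_maximalIdeal _).mpr hnu)
    rw [hval _ hqS, map_mul, map_pow] at hmain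
    rcases (IsLocalRing.maximalIdeal.isMaximal _).isPrime.mem_or_mem hmain with h | h
    · have h' := (IsLocalRing.maximalIdeal.isMaximal _).isPrime.mem_of_pow_mem _ h
      rw [IsLocalRing.mem_maximalIdeal] at h'
      refine h' ?_
      rw [← Scheme.mem_basicOpen _ _ _ (hmem x)]
      show x.1 ∈ Z.basicOpen (Z.presheaf.map (homOfLE hWP).op (cq (Q x)))
      rw [Scheme.basicOpen_res]
      exact ⟨hmem x, (hcq (Q x) hqS).2 x rfl⟩
    · exact he1 (Q x) hqS h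

theorem exists_adapted {X Y Z : Scheme.{u}} (i : Z ⟶ X) [IsClosedImmersion i] (j : Z ⟶ Y)
    [IsIntegralHom j] (y : Y) (U : X.Opens) (hU : IsAffineOpen U)
    (hyU : j ⁻¹' {y} ⊆ (i ⁻¹ᵁ U : Set Z)) :
    ∃ (U' : X.Opens) (V : Y.Opens),
      IsAffineOpen U' ∧ IsAffineOpen V ∧ y ∈ V ∧ i ⁻¹ᵁ U' = j ⁻¹ᵁ V := by
  set P := i ⁻¹ᵁ U
  have hP : IsAffineOpen P := hU.preimage i
  have key : ∀ (O : Z.Opens), j ⁻¹' {y} ⊆ (O : Set Z) →
      ∃ O' : Y.Opens, y ∈ O' ∧ j ⁻¹ᵁ O' ≤ O := fun O hO =>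
    ⟨⟨(j '' (O : Set Z)ᶜ)ᶜ, (j.isClosedMap _ O.isOpen.isClosed_compl).isOpen_compl⟩,
      fun ⟨z, hz, hzy⟩ => hz (hO hzy), fun z hz => by_contra fun hzO => hz ⟨z, hzO, rfl⟩⟩
  obtain ⟨O, hyO, hOP⟩ := key P hyU
  obtain ⟨V, hV, hyV, hVO⟩ := exists_isAffineOpen_mem_and_subset hyO
  have hVP : j ⁻¹ᵁ V ≤ P := fun z hz => hOP (hVO hz)
  obtain ⟨a, haW, hay⟩ := exists_section j y hP hV hyV hVP
  obtain ⟨O₁, hyO₁, hO₁⟩ := key (Z.basicOpen a) hay
  obtain ⟨t, ht, hyt⟩ := hV.exists_basicOpen_le (V := O₁) ⟨y, hyO₁⟩ hyV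
  obtain ⟨a', ha'⟩ := i.app_surjective U hU a
  have hpre : i ⁻¹ᵁ X.basicOpen a' = Z.basicOpen a := by
    rw [Scheme.Hom.preimage_basicOpen, ha']
  have hle : i ⁻¹ᵁ X.basicOpen a' ≤ j ⁻¹ᵁ V := hpre ▸ haW
  obtain ⟨t', ht'⟩ := i.app_surjective (X.basicOpen a') (hU.basicOpen a')
    (Z.presheaf.map (homOfLE hle).op (j.app V t))
  refine ⟨X.basicOpen t', Y.basicOpen t, (hU.basicOpen a').basicOpen t', hV.basicOpen t, hyt, ?_⟩
  rw [Scheme.Hom.preimage_basicOpen, ht', Scheme.basicOpen_res, ← Scheme.Hom.preimage_basicOpen,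
    inf_eq_right, hpre]
  exact fun z hz => hO₁ (ht hz)

end GrothLib.AdaptAff6
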